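import Cfsg.Agent.Lib.Fusion.McLSimple.Data
import Cfsg.Agent.Lib.Fusion.FrattiniLabel
import Cfsg.Agent.Lib.Fusion.MathieuCert22

/-!
The automorphism group of a Sylow 2-subgroup of the Mathieu group on 22 points is a 2-group.
-/

set_option autoImplicit false
set_option maxRecDepth 20000

namespace CfsgLib.Fusion.McLSimple

open Cfsg CfsgLib.Golay CfsgLib.Fusion.PermCert

/-- The list of elements. -/
def elemList : List (List ℕ) := elems M22.gens

/-- An element by number. -/
def nth (i : ℕ) : List ℕ := elemList.getD i []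

/-- The label of an element. -/
def labelOf (a : List ℕ) : ℕ := labTable.getD (elemList.idxOf a) 0

theorem label_hom : elemList.all (fun a => M22.gens.all fun x => elemList.contains (compL a x) &&
    (labelOf (compL a x)).beq (labelOf a ^^^ labelOf x)) = true := by
  decide +kernel

theorem label_lt : elemList.all (fun a => (labelOf a).blt 8) = true := by decide +kernel

theorem label_one : labelOf (List.range 24) = 0 := by decide +kernel

theorem sec_ok : (List.range 8).all (fun w => elemList.contains (nth (secTable.getD w 0)) &&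
    (labelOf (nth (secTable.getD w 0))).beq w) = true := by
  decide +kernel

theorem decomp_ok : elemList.all (fun a => rootPairs.any fun e =>
    elemList.contains (nth e.1) && elemList.contains (nth e.2) &&
      decide (a = compL (nth (secTable.getD (labelOf a) 0))
        (compL (compL (nth e.1) (nth e.1)) (compL (nth e.2) (nth e.2))))) = true := by
  decide +kernel

theorem square_labels : elemList.all (fun a =>
    (!decide (compL a a = List.range 24) || involLabels.getD (labelOf a) false) &&
      (!decide (compL a a = M22.z) || sqzLabels.getD (labelOf a) false)) = true := by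
  decide +kernel

theorem square_wit : (List.range 8).all (fun w =>
    (!involLabels.getD w false || (elemList.contains (nth (involWit.getD w 0)) &&
      (labelOf (nth (involWit.getD w 0))).beq w &&
      decide (compL (nth (involWit.getD w 0)) (nth (involWit.getD w 0)) = List.range 24))) &&
    (!sqzLabels.getD w false || (elemList.contains (nth (sqzWit.getD w 0)) &&
      (labelOf (nth (sqzWit.getD w 0))).beq w &&
      decide (compL (nth (sqzWit.getD w 0)) (nth (sqzWit.getD w 0)) = M22.z)))) = true := by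
  decide +kernel

theorem basis_images : ∀ a b c : Fin 8,
    ((List.range 8).all fun v => (List.range 8).all fun w =>
      v.beq w || !(FrattiniLabelling.comb3 a b c v).beq (FrattiniLabelling.comb3 a b c w)) = true →
    ((List.range 8).all fun w =>
      (!involLabels.getD w false || involLabels.getD (FrattiniLabelling.comb3 a b c w) false) &&
      (!sqzLabels.getD w false || sqzLabels.getD (FrattiniLabelling.comb3 a b c w) false)) = true →
    (a.val, b.val, c.val) ∈ basisImages := by
  decide +kernel

/-- The Sylow subgroup. -/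
noncomputable abbrev sylM : Subgroup (Equiv.Perm GolayPt) := genBy M22.gens

theorem cert_parts : Enum elemList sylM ∧ (∀ a ∈ M22.gens, validL 24 a = true) ∧
    Nat.card sylM = 2 ^ 7 ∧ (∀ a ∈ M22.gens, M22.test a = true) ∧
    (validL 24 M22.z = true ∧ elemList.contains M22.z = true ∧ M22.z ≠ List.range 24 ∧
      compL M22.z M22.z = List.range 24) ∧
    (∀ c ∈ elemList, c = M22.z ∨ c = List.range 24 ∨ ∃ x ∈ M22.gens, compL c x ≠ compL x c) ∧
    fusedOk M22.test elemList [M22.z] M22.steps M22.gens = true := by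
  have hok := M22.cert
  simp only [certOk, Bool.and_eq_true, List.all_eq_true, decide_eq_true_eq, Bool.or_eq_true,
    List.any_eq_true] at hok
  obtain ⟨⟨⟨⟨⟨⟨⟨⟨⟨⟨⟨hpoly, hgt⟩, hzv⟩, hzE⟩, hz2⟩, hz1⟩, hcen⟩, hfus⟩, -⟩, -⟩, -⟩, -⟩ := hok
  obtain ⟨hE, hgv, hcardS⟩ := elems_spec hpoly
  exact ⟨hE, hgv, M22.gens_length ▸ hcardS, hgt, ⟨hzv, hzE, hz1, hz2⟩,
    fun c hc => or_assoc.1 (hcen c hc), hfus⟩

theorem exists_list (s : sylM) : ∃ a ∈ elemList, pOf a = s.1 := (cert_parts.1.2 _).1 s.2

/-- The list of an element. -/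
noncomputable def listOf (s : sylM) : List ℕ := Classical.choose (exists_list s)

theorem listOf_mem (s : sylM) : listOf s ∈ elemList := (Classical.choose_spec (exists_list s)).1

theorem pOf_listOf (s : sylM) : pOf (listOf s) = s.1 := (Classical.choose_spec (exists_list s)).2

theorem listOf_eq {s : sylM} {a : List ℕ} (ha : a ∈ elemList) (h : pOf a = s.1) : listOf s = a :=
  eq_of_pOf_eq (cert_parts.1.1 _ (listOf_mem s)) (cert_parts.1.1 a ha) ((pOf_listOf s).trans h.symm)

theorem mem_sylM {a : List ℕ} (ha : a ∈ elemList) : pOf a ∈ sylM := (cert_parts.1.2 _).2 ⟨a, ha, rfl⟩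

theorem pOf_sq {a : List ℕ} (ha : a ∈ elemList) : pOf (compL a a) = pOf a * pOf a :=
  pOf_compL (cert_parts.1.1 a ha) (cert_parts.1.1 a ha)

theorem label_mul (a b : sylM) :
    labelOf (listOf (a * b)) = labelOf (listOf a) ^^^ labelOf (listOf b) := by
  obtain ⟨hE, hgv, -⟩ := cert_parts
  obtain ⟨b, hb⟩ := b
  suffices H : ∀ a : sylM, labelOf (listOf (a * ⟨b, hb⟩)) =
      labelOf (listOf a) ^^^ labelOf (listOf ⟨b, hb⟩) from H a
  have h1 : listOf 1 = List.range 24 := by
    refine eq_of_pOf_eq (hE.1 _ (listOf_mem 1)) (by decide) ?_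
    rw [pOf_listOf, pOf_range]
    rfl
  have hb' : b ∈ Submonoid.closure {g | ∃ a ∈ M22.gens, pOf a = g} := by
    have : Finite (Equiv.Perm GolayPt) := inferInstance
    rw [← Subgroup.closure_toSubmonoid_of_finite]
    exact hb
  clear a
  suffices H : ∀ hb : b ∈ sylM, ∀ a : sylM, labelOf (listOf (a * ⟨b, hb⟩)) =
      labelOf (listOf a) ^^^ labelOf (listOf ⟨b, hb⟩) from H hb
  clear hb
  induction hb' using Submonoid.closure_induction with
  | mem w hw =>
    intro hb a
    obtain ⟨x, hx, rfl⟩ := hw
    have hgen : ∀ c ∈ elemList, compL c x ∈ elemList ∧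
        labelOf (compL c x) = labelOf c ^^^ labelOf x := by
      intro c hc
      have h := label_hom
      simp only [List.all_eq_true, Bool.and_eq_true, List.contains_iff_mem, Nat.beq_eq] at h
      exact h c hc x hx
    obtain ⟨he, hl⟩ := hgen _ (listOf_mem a)
    rw [listOf_eq (s := a * ⟨pOf x, hb⟩) he (by
      rw [pOf_compL (hE.1 _ (listOf_mem a)) (hgv x hx), pOf_listOf]; rfl), hl]
    congr 1
    have hxm : x ∈ elemList := by
      obtain ⟨c, hc, hce⟩ := (hE.2 _).1 hb
      rwa [← eq_of_pOf_eq (hE.1 c hc) (hgv x hx) hce]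
    rw [listOf_eq (s := ⟨pOf x, hb⟩) hxm rfl]
  | one =>
    intro hb a
    rw [show (⟨1, hb⟩ : sylM) = 1 from rfl, mul_one, h1, label_one, Nat.xor_zero]
  | mul u v hu hv ihu ihv =>
    intro hb a
    have hu' : u ∈ sylM := by
      rw [← Subgroup.closure_toSubmonoid_of_finite] at hu
      exact hu
    have hv' : v ∈ sylM := by
      rw [← Subgroup.closure_toSubmonoid_of_finite] at hv
      exact hv
    rw [show (⟨u * v, hb⟩ : sylM) = ⟨u, hu'⟩ * ⟨v, hv'⟩ from rfl, ← mul_assoc, ihv hv', ihu hu',
      ihv hv', Nat.xor_assoc]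

/-- The labelling. -/
noncomputable def labelling : FrattiniLabelling sylM where
  lb s := labelOf (listOf s)
  lb_lt s := by
    have h := label_lt
    simp only [List.all_eq_true, Nat.blt_eq] at h
    exact h _ (listOf_mem s)
  lb_mul := label_mul
  sec w := ⟨pOf (nth (secTable.getD w.val 0)), mem_sylM (by
    have h := sec_ok
    simp only [List.all_eq_true, List.mem_range, Bool.and_eq_true, List.contains_iff_mem] at h
    exact (h w.val w.isLt).1)⟩
  lb_sec w := by
    have h := sec_ok
    simp only [List.all_eq_true, List.mem_range, Bool.and_eq_true, List.contains_iff_mem,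
      Nat.beq_eq] at h
    rw [listOf_eq (h w.val w.isLt).1 rfl]
    exact (h w.val w.isLt).2
  decomp s := by
    have h := decomp_ok
    simp only [List.all_eq_true, List.any_eq_true, Bool.and_eq_true, List.contains_iff_mem,
      decide_eq_true_eq] at h
    obtain ⟨e, -, ⟨hp, hq⟩, he⟩ := h _ (listOf_mem s)
    refine ⟨⟨_, mem_sylM hp⟩, ⟨_, mem_sylM hq⟩, Subtype.ext ?_⟩
    have hv := fun a ha => cert_parts.1.1 a ha
    have hs := sec_ok
    simp only [List.all_eq_true, List.mem_range, Bool.and_eq_true, List.contains_iff_mem] at hs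
    have hl : labelOf (listOf s) < 8 := by
      have h' := label_lt
      simp only [List.all_eq_true, Nat.blt_eq] at h'
      exact h' _ (listOf_mem s)
    have h2 := congrArg pOf he
    rw [pOf_listOf, pOf_compL (hv _ (hs _ hl).1) (validL_compL (validL_compL (hv _ hp) (hv _ hp))
      (validL_compL (hv _ hq) (hv _ hq))), pOf_compL (validL_compL (hv _ hp) (hv _ hp))
      (validL_compL (hv _ hq) (hv _ hq)), pOf_sq hp, pOf_sq hq] at h2
    exact h2

/-- The central involution. -/
noncomputable def zM : sylM :=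
  ⟨pOf M22.z, mem_sylM (List.contains_iff_mem.1 cert_parts.2.2.2.2.1.2.1)⟩

theorem zM_ne_one : zM ≠ 1 := fun h => cert_parts.2.2.2.2.1.2.2.1
  (eq_of_pOf_eq cert_parts.2.2.2.2.1.1 (by decide) ((congrArg Subtype.val h).trans pOf_range.symm))

theorem zM_sq : zM * zM = 1 := Subtype.ext (by
  show pOf M22.z * pOf M22.z = 1
  rw [← pOf_compL cert_parts.2.2.2.2.1.1 cert_parts.2.2.2.2.1.1, cert_parts.2.2.2.2.1.2.2.2,
    pOf_range])

theorem central_eq {c : sylM} (hc : ∀ s : sylM, s * c = c * s) : c = 1 ∨ c = zM := by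
  obtain ⟨hE, hgv, -, -, -, hcen, -⟩ := cert_parts
  rcases hcen _ (listOf_mem c) with h | h | ⟨x, hx, hne⟩
  · exact Or.inr (Subtype.ext ((pOf_listOf c).symm.trans (congrArg pOf h)))
  · exact Or.inl (Subtype.ext ((pOf_listOf c).symm.trans ((congrArg pOf h).trans pOf_range)))
  · exfalso
    apply hne
    refine eq_of_pOf_eq (validL_compL (hE.1 _ (listOf_mem c)) (hgv x hx))
      (validL_compL (hgv x hx) (hE.1 _ (listOf_mem c))) ?_
    rw [pOf_compL (hE.1 _ (listOf_mem c)) (hgv x hx), pOf_compL (hgv x hx) (hE.1 _ (listOf_mem c)),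
      pOf_listOf]
    exact (congrArg Subtype.val (hc ⟨pOf x, mem_genBy hx⟩)).symm

theorem zM_central (s : sylM) : s * zM = zM * s := by
  have hp : IsPGroup 2 sylM := IsPGroup.of_card cert_parts.2.2.1
  have : Nontrivial sylM := ⟨⟨zM, 1, zM_ne_one⟩⟩
  have := hp.center_nontrivial
  obtain ⟨⟨c, hc⟩, hc1⟩ := exists_ne (1 : Subgroup.center sylM)
  rcases central_eq (Subgroup.mem_center_iff.1 hc) with h | h
  · exact absurd (Subtype.ext h) hc1
  · rw [← h]; exact Subgroup.mem_center_iff.1 hc s

theorem aut_zM (β : MulAut sylM) : β zM = zM := by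
  rcases central_eq (c := β zM) (fun s => by
    obtain ⟨t, rfl⟩ := β.surjective s
    rw [← map_mul, ← map_mul, zM_central]) with h | h
  · exact absurd (β.injective (h.trans (map_one β).symm)) zM_ne_one
  · exact h

theorem isPGroup_aut_sylM : IsPGroup 2 (MulAut sylM) := by
  have hp : IsPGroup 2 sylM := IsPGroup.of_card cert_parts.2.2.1
  have hlab : ∀ s : sylM, labelling.lb s = labelOf (listOf s) := fun s => rfl
  have hsq := square_labels
  simp only [List.all_eq_true, Bool.and_eq_true, Bool.or_eq_true, Bool.not_eq_true',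
    decide_eq_false_iff_not] at hsq
  have hwit := square_wit
  simp only [List.all_eq_true, List.mem_range, Bool.and_eq_true, Bool.or_eq_true,
    Bool.not_eq_true', List.contains_iff_mem, Nat.beq_eq, decide_eq_true_eq] at hwit
  refine labelling.isPGroup_mulAut hp zM aut_zM involLabels sqzLabels (fun w => ?_) (fun w => ?_)
    basisImages basis_images (le_of_eq rfl)
  · constructor
    · rintro ⟨a, ha, ha2⟩
      rw [hlab] at ha
      rw [← ha]
      refine ((hsq _ (listOf_mem a)).1).resolve_left fun hne => hne ?_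
      refine eq_of_pOf_eq (validL_compL (cert_parts.1.1 _ (listOf_mem a))
        (cert_parts.1.1 _ (listOf_mem a))) (by decide) ?_
      rw [pOf_sq (listOf_mem a), pOf_listOf, pOf_range]
      exact congrArg Subtype.val ha2
    · intro h
      obtain ⟨⟨hm, hl⟩, he⟩ := (hwit w.val w.isLt).1.resolve_left (by rw [h]; simp)
      refine ⟨⟨_, mem_sylM hm⟩, by rw [hlab, listOf_eq hm rfl, hl], Subtype.ext ?_⟩
      show pOf _ * pOf _ = 1
      rw [← pOf_sq hm, he, pOf_range]
  · constructor
    · rintro ⟨a, ha, ha2⟩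
      rw [hlab] at ha
      rw [← ha]
      refine ((hsq _ (listOf_mem a)).2).resolve_left fun hne => hne ?_
      refine eq_of_pOf_eq (validL_compL (cert_parts.1.1 _ (listOf_mem a))
        (cert_parts.1.1 _ (listOf_mem a))) cert_parts.2.2.2.2.1.1 ?_
      rw [pOf_sq (listOf_mem a), pOf_listOf]
      exact congrArg Subtype.val ha2
    · intro h
      obtain ⟨⟨hm, hl⟩, he⟩ := (hwit w.val w.isLt).2.resolve_left (by rw [h]; simp)
      refine ⟨⟨_, mem_sylM hm⟩, by rw [hlab, listOf_eq hm rfl, hl], Subtype.ext ?_⟩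
      show pOf _ * pOf _ = pOf M22.z
      rw [← pOf_sq hm, he]

end CfsgLib.Fusion.McLSimple
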