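import Cfsg.Agent.Lib.Fusion.FusedAutTwo
import Cfsg.Agent.Lib.Fusion.MathieuCards
import Cfsg.Agent.Lib.Fusion.McLSimple.Sylow
import Cfsg.Agent.Lib.Fusion.CentralQuotientSimple
import Cfsg.Agent.Lib.Leech.Configs
import Cfsg.Prelude.Def_Spor_Conway

/-!
The 2-fusion system of the McLaughlin group is simple: a Sylow 2-subgroup lies in the Mathieu
group on 22 points, whose fusion already rules out strongly closed subgroups.
-/

set_option autoImplicit false
set_option maxRecDepth 20000

open Cfsg Cfsg.FusionSystem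

namespace CfsgLib.Fusion.McLSimple

open CfsgLib.Golay CfsgLib.Fusion.PermCert CfsgLib.Leech

open scoped Pointwise

/-- The negative of the vector of norm 48. -/
noncomputable def mclU : leechLattice := -Spor.leechV

theorem mcl_dots : sqNorm (mclU : GolayPt → ℤ) = 48 ∧ sqNorm (Spor.leechU : GolayPt → ℤ) = 32 ∧
    dotInt (mclU : GolayPt → ℤ) (Spor.leechU : GolayPt → ℤ) = 24 := by decide +kernel

/-- The stabiliser of the pair in the isometry group. -/
noncomputable def mclStab : Subgroup Co0 :=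
  MulAction.stabilizer Co0 mclU ⊓ MulAction.stabilizer Co0 Spor.leechU

theorem card_mclStab : Nat.card mclStab = 898128000 := by
  set H := MulAction.stabilizer Co0 mclU with hH
  have horb1 : MulAction.orbit Co0 mclU = {x : leechLattice | sqNorm (x : GolayPt → ℤ) = 48} := by
    ext x
    constructor
    · rintro ⟨g, rfl⟩
      exact (sqNorm_smul_co g mclU).trans mcl_dots.1
    · intro hx
      obtain ⟨g, hg⟩ := exists_smul_eq48 mcl_dots.1 hx
      exact ⟨g, hg⟩
  have hn1 : {x : leechLattice | sqNorm (x : GolayPt → ℤ) = 48}.ncard = 16773120 := by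
    rw [ncard_subtype fun x => sqNorm x = 48]
    exact ncard_norm48
  have hH1 := H.index_mul_card
  rw [hH, MulAction.index_stabilizer, horb1, hn1, card_co0] at hH1
  set W : Set leechLattice := {x : leechLattice | sqNorm (x : GolayPt → ℤ) = 32 ∧
    dotInt (mclU : GolayPt → ℤ) x = 24} with hW
  have hn2 : W.ncard = 552 := by
    obtain ⟨g, hg⟩ := exists_smul_eq_base48 (v := mclU) mcl_dots.1
    rw [hW, ncard_dot_one g hg]
    exact ncard_base48.1
  have horb2 : MulAction.orbit H Spor.leechU = W := by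
    ext x
    constructor
    · rintro ⟨⟨g, hg⟩, rfl⟩
      refine ⟨(sqNorm_smul_co g Spor.leechU).trans mcl_dots.2.1, ?_⟩
      have h := dot_smul_co g mclU Spor.leechU
      rw [show g • mclU = mclU from hg] at h
      exact h.trans mcl_dots.2.2
    · rintro ⟨hx, hux⟩
      have key : ∀ {b : leechLattice}, sqNorm (b : GolayPt → ℤ) = 32 →
          dotInt (mclU : GolayPt → ℤ) b = 24 →
          ∃ g : Co0, ((g • b : leechLattice) : GolayPt → ℤ) = pair8v ∧
            ((g • (mclU - b) : leechLattice) : GolayPt → ℤ) = pair8w := fun {b} hb hd =>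
        exists_pair8 hb (by rw [AddSubgroup.coe_sub, sqNorm_sub, mcl_dots.1, hd, hb]; norm_num)
          (by rw [AddSubgroup.coe_sub, dotInt_sub_right, dotInt_comm, hd, dotInt_self, hb]; norm_num)
      obtain ⟨g, h1, h2⟩ := exists_map_pair (key mcl_dots.2.1 mcl_dots.2.2) (key hx hux)
      refine ⟨⟨g, ?_⟩, h1⟩
      show g • mclU = mclU
      calc g • mclU = g • ((mclU - Spor.leechU) + Spor.leechU) := by rw [sub_add_cancel]
        _ = (mclU - x) + x := by rw [smul_add', h2, h1]
        _ = mclU := sub_add_cancel _ _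
  have hH2 := (MulAction.stabilizer H Spor.leechU).index_mul_card
  rw [MulAction.index_stabilizer, horb2, hn2] at hH2
  have he : Nat.card mclStab = Nat.card (MulAction.stabilizer H Spor.leechU) := by
    refine Nat.card_congr
      { toFun := fun g => ⟨⟨g.1, g.2.1⟩, g.2.2⟩
        invFun := fun g => ⟨g.1.1, g.1.2, g.2⟩
        left_inv := fun g => rfl
        right_inv := fun g => rfl }
  rw [he]
  generalize Nat.card H = a at hH1 hH2
  omega

theorem card_McL : Nat.card Spor.McL = 898128000 := by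
  rw [← card_mclStab]
  have hneg : ∀ g : Co0, g • mclU = mclU ↔ g • Spor.leechV = Spor.leechV := fun g => by
    rw [mclU, smul_neg', neg_inj]
  refine Nat.card_congr
    { toFun := fun g => ⟨⟨g.1, g.2.1.1⟩, (hneg ⟨g.1, g.2.1.1⟩).2 g.2.1.2, g.2.2⟩
      invFun := fun g => ⟨g.1.1, ⟨g.1.2, (hneg g.1).1 g.2.1⟩, g.2.2⟩
      left_inv := fun g => rfl
      right_inv := fun g => rfl }

theorem finite_McL : Finite Spor.McL := Nat.finite_of_card_ne_zero (by rw [card_McL]; norm_num)

theorem m22_mem_M24 (g : Spor.M22) : g.1 ∈ M24 := g.2.1.1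

theorem permAut_mem_McL (g : Spor.M22) :
    ((permAut g.1 (m22_mem_M24 g)).1 : Equiv.Perm leechLattice) ∈ Spor.McL := by
  have h0 : g.1.symm (none : GolayPt) = none := g.1.symm_apply_eq.2 (show g.1 none = none from g.2.1.2).symm
  have h1 : g.1.symm (some 0 : GolayPt) = some 0 :=
    g.1.symm_apply_eq.2 (show g.1 (some 0) = some 0 from g.2.2).symm
  have hp : ∀ q : GolayPt, (g.1.symm q = none ↔ q = none) ∧ (g.1.symm q = some 0 ↔ q = some 0) :=
    fun q => ⟨by conv_lhs => rw [← h0]; rw [g.1.symm.injective.eq_iff],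
      by conv_lhs => rw [← h1]; rw [g.1.symm.injective.eq_iff]⟩
  refine ⟨⟨(permAut g.1 (m22_mem_M24 g)).2, ?_⟩, ?_⟩ <;>
    refine Subtype.ext (funext fun q => ?_)
  · show Spor.vecV (g.1.symm q) = Spor.vecV q
    simp only [Spor.vecV, hp q]
  · show Spor.vecU (g.1.symm q) = Spor.vecU q
    simp only [Spor.vecU, hp q]

/-- The permutation matrices in the McLaughlin group. -/
noncomputable def m22Hom : Spor.M22 →* Spor.McL where
  toFun g := ⟨_, permAut_mem_McL g⟩
  map_one' := Subtype.ext (Equiv.ext fun v => Subtype.ext (funext fun q => rfl))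
  map_mul' a b := Subtype.ext (Equiv.ext fun v => Subtype.ext (funext fun q => rfl))

theorem m22Hom_injective : Function.Injective m22Hom := by
  intro a b e
  refine Subtype.ext (Equiv.ext fun p => ?_)
  by_contra hne
  have h := congrArg (fun g : Spor.McL =>
    ((g.1 (axisVec p 8 dvd_rfl) : leechLattice) : GolayPt → ℤ) (a.1 p)) e
  have h' : (Pi.single p 8 : GolayPt → ℤ) (a.1.symm (a.1 p)) =
      (Pi.single p 8 : GolayPt → ℤ) (b.1.symm (a.1 p)) := h
  rw [a.1.symm_apply_apply, Pi.single_eq_same,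
    Pi.single_eq_of_ne (fun e => hne (b.1.symm_apply_eq.1 e))] at h'
  omega

theorem test_mem_M22 {L : List ℕ} (hv : validL 24 L = true) (h : M22.test L = true) :
    pOf L ∈ Spor.M22 := by
  simp only [M22.test, Bool.and_eq_true, decide_eq_true_eq] at h
  refine Subgroup.mem_inf.2 ⟨Subgroup.mem_inf.2 ⟨mem_M24_of_test h.1.1, ?_⟩, ?_⟩
  · have h1 := smul_toSet hv 8388608
    rw [h.1.2, show toSet 8388608 = {(none : GolayPt)} from toSet_top_bit,
      Finset.smul_finset_singleton, Finset.singleton_inj] at h1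
    exact h1
  · have h1 := smul_toSet hv 1
    rw [h.2, toSet_one, Finset.smul_finset_singleton, Finset.singleton_inj] at h1
    exact h1

theorem sylM_le : sylM ≤ Spor.M22 :=
  genBy_le fun a ha => test_mem_M22 (cert_parts.2.1 a ha) (cert_parts.2.2.2.1 a ha)

/-- The Sylow subgroup inside the McLaughlin group. -/
noncomputable def sylInMcL : Subgroup Spor.McL := (m22Hom.comp (Subgroup.inclusion sylM_le)).range

/-- The identification of the Sylow subgroup with its copy. -/
noncomputable def sylEquiv : sylM ≃* sylInMcL :=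
  MonoidHom.ofInjective (m22Hom_injective.comp (Subgroup.inclusion_injective sylM_le))

theorem fused_lift : ∀ y ∈ sylM, ∀ hy : y ∈ Spor.M22,
    Fused sylInMcL (m22Hom ⟨pOf M22.z, sylM_le zM.2⟩) (m22Hom ⟨y, hy⟩) := by
  obtain ⟨hE, hgv, -, -, ⟨hzv, hzE, -, -⟩, -, hfus⟩ := cert_parts
  have hgen : ∀ a ∈ M22.gens, FusedIn Spor.M22 sylM (pOf M22.z) (pOf a) :=
    fusedOk_spec (fun L hv h => test_mem_M22 hv h) hE hfus fun b hb => by
      rw [List.mem_singleton] at hb
      subst hb
      exact ⟨hzv, .base⟩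
  have hclos : ∀ y ∈ sylM, FusedIn Spor.M22 sylM (pOf M22.z) y := by
    intro y hy
    rw [sylM, genBy, ← SetLike.mem_coe, ← Subgroup.coe_toSubmonoid,
      Subgroup.closure_toSubmonoid_of_finite] at hy
    induction hy using Submonoid.closure_induction with
    | mem w hw =>
      obtain ⟨a, ha, rfl⟩ := hw
      exact hgen a ha
    | one => exact .one
    | mul a b _ _ iha ihb => exact iha.mul ihb
  intro y hy hy22
  suffices H : ∃ hy : y ∈ Spor.M22,
      Fused sylInMcL (m22Hom ⟨pOf M22.z, sylM_le zM.2⟩) (m22Hom ⟨y, hy⟩) from H.2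
  have hF := hclos y hy
  clear hy hy22
  induction hF with
  | base => exact ⟨sylM_le zM.2, .base⟩
  | one => exact ⟨one_mem _, by
      rw [show (⟨1, one_mem _⟩ : Spor.M22) = 1 from rfl, map_one]; exact .one⟩
  | @mul a b _ _ iha ihb =>
    refine ⟨mul_mem iha.1 ihb.1, ?_⟩
    rw [show (⟨a * b, mul_mem iha.1 ihb.1⟩ : Spor.M22) = ⟨a, iha.1⟩ * ⟨b, ihb.1⟩ from rfl, map_mul]
    exact iha.2.mul ihb.2
  | @conj a g hg _ hgs ih =>
    refine ⟨sylM_le hgs, ?_⟩
    rw [show (⟨g * a * g⁻¹, sylM_le hgs⟩ : Spor.M22) = ⟨g, hg⟩ * ⟨a, ih.1⟩ * ⟨g, hg⟩⁻¹ from rfl,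
      map_mul, map_mul, map_inv]
    refine ih.2.conj _ ?_
    rw [← map_inv, ← map_mul, ← map_mul]
    exact ⟨⟨g * a * g⁻¹, hgs⟩, rfl⟩

theorem exists_simple_sylow :
    ∃ P : Sylow 2 Spor.McL, (groupFusionSystem (P : Subgroup Spor.McL)).IsSimple 2 := by
  have := finite_McL
  have hcard : Nat.card sylInMcL = 2 ^ 7 :=
    (Nat.card_congr sylEquiv.toEquiv).symm.trans cert_parts.2.2.1
  let P : Sylow 2 Spor.McL := Sylow.ofCard sylInMcL (by
    rw [hcard, card_McL, show (898128000 : ℕ) = 2 ^ 7 * 7016625 by norm_num,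
      Nat.factorization_mul (by norm_num) (by norm_num), Finsupp.add_apply,
      Nat.Prime.factorization_pow Nat.prime_two, Finsupp.single_eq_same,
      Nat.factorization_eq_zero_of_not_dvd (by norm_num : ¬ 2 ∣ 7016625)])
  have hPsimple : (groupFusionSystem (P : Subgroup Spor.McL)).IsSimple 2 := by
    refine isSimple_of_fused_autPGroup P (m22Hom ⟨pOf M22.z, sylM_le zM.2⟩) ?_ ⟨zM, rfl⟩ ?_ ?_ ?_
    · intro h
      rw [← map_one m22Hom] at h
      exact zM_ne_one (Subtype.ext (congrArg (fun g : Spor.M22 => g.1) (m22Hom_injective h)))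
    · rintro _ ⟨c, rfl⟩ hc
      rcases central_eq (c := c) (fun s => (m22Hom_injective.comp (Subgroup.inclusion_injective sylM_le)) (by
          simpa using hc _ ⟨s, rfl⟩)) with rfl | rfl
      · exact Or.inl (map_one _)
      · exact Or.inr rfl
    · rintro _ ⟨c, rfl⟩
      exact fused_lift c c.2 (sylM_le c.2)
    · exact isPGroup_aut_sylM.of_equiv (MulAut.congr sylEquiv)
  exact ⟨P, hPsimple⟩

/-- The 2-fusion system of a group isomorphic to the McLaughlin group is simple. -/
theorem isSimple_of_isoMcL {G : Type*} [Group G] [Finite G] (hG : Spor.IsoMcL G) (S : Sylow 2 G) :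
    (groupFusionSystem (S : Subgroup G)).IsSimple 2 := by
  obtain ⟨e⟩ := hG
  have := finite_McL
  obtain ⟨P, hP⟩ := exists_simple_sylow
  have hπ₀ : Function.Surjective e.symm.toMonoidHom := e.symm.surjective
  obtain ⟨k, hk⟩ := MulAction.exists_smul_eq G (P.mapSurjective hπ₀) S
  let π : Spor.McL →* G := (MulAut.conj k).toMonoidHom.comp e.symm.toMonoidHom
  have hinj : Function.Injective π := (MulAut.conj k).injective.comp e.symm.injective
  have hmap : (P : Subgroup Spor.McL).map π = (S : Subgroup G) := by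
    rw [← hk, ← Subgroup.map_map]
    rfl
  refine (transported_groupFusion_central π ((MulAut.conj k).surjective.comp hπ₀) ?_ ?_ P.2
    hmap).isSimple P.2 hP
  · intro x hx
    rw [hinj (hx.trans (map_one π).symm)]
    exact one_mem _
  · intro x hx
    rw [hinj (hx.trans (map_one π).symm), orderOf_one]
    exact Nat.coprime_one_left 2

end CfsgLib.Fusion.McLSimple
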