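/-!
Frattini labels for the elements of the Sylow 2-subgroup of the Mathieu group on 22 points.
-/

set_option autoImplicit false

namespace CfsgLib.Fusion.McLSimple

/-- The labels, in the order of enumeration. -/
def labTable : List Nat := [0, 0, 0, 0, 0, 0, 0, 0, 1, 1, 1, 1, 1, 1, 1, 1, 1, 1, 1, 1, 1, 1, 1, 1, 0, 0, 0, 0, 0, 0, 0, 0, 2, 2, 2, 2, 2, 2, 2, 2, 3, 3, 3, 3, 3, 3, 3, 3, 3, 3, 3, 3, 3, 3, 3, 3, 2, 2, 2, 2, 2, 2, 2, 2, 4, 4, 4, 4, 4, 4, 4, 4, 5, 5, 5, 5, 5, 5, 5, 5, 5, 5, 5, 5, 5, 5, 5, 5, 4, 4, 4, 4, 4, 4, 4, 4, 6, 6, 6, 6, 6, 6, 6, 6, 7, 7, 7, 7, 7, 7, 7, 7, 7, 7, 7, 7, 7, 7, 7, 7, 6, 6, 6, 6, 6, 6, 6, 6]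

/-- A section. -/
def secTable : List Nat := [0, 8, 32, 40, 64, 72, 96, 104]

/-- Square roots for the Frattini subgroup. -/
def rootPairs : List (Nat × Nat) := [(0, 0), (0, 28), (0, 20), (0, 16), (0, 32), (0, 34), (0, 58), (0, 56), (0, 104), (0, 106), (0, 110), (0, 108), (0, 98), (0, 96), (0, 100), (0, 102)]

/-- The labels of elements of order at most two. -/
def involLabels : List Bool := [true, true, false, true, true, false, false, false]

/-- The labels of elements with central square. -/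
def sqzLabels : List Bool := [true, false, false, true, false, true, false, false]

/-- Witnesses of order at most two. -/
def involWit : List Nat := [0, 8, 0, 40, 64, 0, 0, 0]

/-- Witnesses with central square. -/
def sqzWit : List Nat := [28, 0, 0, 42, 0, 72, 0, 0]

/-- The possible images of a basis. -/
def basisImages : List (Nat × Nat × Nat) := [(1, 2, 4), (4, 7, 1)]

end CfsgLib.Fusion.McLSimple
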